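import Groth.Agent.Lib.AdeqA.Ext
import Groth.Agent.Lib.AdeqA.Cover
import Mathlib.Algebra.Homology.HomologySequence
import Mathlib.Algebra.Homology.HomologicalComplexAbelian
import Mathlib.Algebra.Homology.HomologicalComplexBiprod

/-!
# Exact sequences of adequate functors
-/

set_option autoImplicit false
set_option maxHeartbeats 400000
set_option linter.style.haveILetI false

universe u

open CategoryTheory CategoryTheory.Limits Opposite

noncomputable section

namespace Groth.Agent.RpushAdeq8

open Groth.Agent.AdeqA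

attribute [local instance] Abelian.hasFiniteBiproducts

variable {A : Type u} [CommRing A]

/-- Exactness can be tested on elements. -/
theorem exact_of_el (S : ShortComplex (Adeq.MVF A))
    (h : ∀ B (y : El S.X₂ B), app S.g B y = 0 → ∃ x, app S.f B x = y) : S.Exact := by
  rw [ShortComplex.exact_iff_epi_kernel_lift]
  refine epi_of_surjective _ fun B z => ?_
  obtain ⟨x, hx⟩ := h B (app (kernel.ι S.g) B z) ((isKer_kernel S.g).zero B z)
  refine ⟨x, (isKer_kernel S.g).inj B ?_⟩
  rw [← app_comp, kernel.lift_ι]
  exact hx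

/-- The middle of an exact sequence of five adequate functors is adequate. -/
theorem adequate_five {A' P Q R' D : Adeq.MVF A} {f₀ : A' ⟶ P} {f : P ⟶ Q} {g : Q ⟶ R'} {h : R' ⟶ D}
    {w₁ : f₀ ≫ f = 0} {w₂ : f ≫ g = 0} {w₃ : g ≫ h = 0}
    (e₁ : (ShortComplex.mk f₀ f w₁).Exact) (e₂ : (ShortComplex.mk f g w₂).Exact)
    (e₃ : (ShortComplex.mk g h w₃).Exact)
    (hA : Adeq.adequate A A') (hP : Adeq.adequate A P) (hR : Adeq.adequate A R') (hD : Adeq.adequate A D) :
    Adeq.adequate A Q := by
  let a : cokernel f₀ ⟶ Q := cokernel.desc f₀ f w₁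
  let b : Q ⟶ kernel h := kernel.lift h g w₃
  have hab : a ≫ b = 0 := by
    rw [← cancel_epi (cokernel.π f₀), ← cancel_mono (kernel.ι h)]
    simp only [a, b, Category.assoc, kernel.lift_ι, cokernel.π_desc_assoc, w₂, comp_zero, zero_comp]
  have hπa : ∀ B x, app a B (app (cokernel.π f₀) B x) = app f B x := fun B x => by
    rw [← app_comp, cokernel.π_desc]
  have hbι : ∀ B y, app (kernel.ι h) B (app b B y) = app g B y := fun B y => by
    rw [← app_comp, kernel.lift_ι]
  have hmono : Mono a := mono_of_injective a fun B => by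
    rw [injective_iff_map_eq_zero]
    intro z hz
    obtain ⟨x, rfl⟩ := surjective_of_epi (cokernel.π f₀) B z
    rw [hπa] at hz
    obtain ⟨x', rfl⟩ := exists_of_exact e₁ B x hz
    show app (cokernel.π f₀) B (app f₀ B x') = 0
    rw [← app_comp, cokernel.condition, app_zero]
  have hepi : Epi b := epi_of_surjective b fun B z => by
    obtain ⟨y, hy⟩ := exists_of_exact e₃ B (app (kernel.ι h) B z) ((isKer_kernel h).zero B z)
    exact ⟨y, (isKer_kernel h).inj B ((hbι B y).trans hy)⟩
  have hex : (ShortComplex.mk a b hab).Exact := exact_of_el _ fun B y hy => by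
    obtain ⟨x, hx⟩ := exists_of_exact e₂ B y (by
      show app g B y = 0
      rw [← hbι, show app b B y = 0 from hy, map_zero])
    exact ⟨app (cokernel.π f₀) B x, (hπa B x).trans hx⟩
  exact adequate_of_shortExact (ShortComplex.ShortExact.mk' hex hmono hepi) (adequate_cokernel f₀ hA hP)
    (adequate_kernel h hR hD)

variable (A) in
/-- Complexes with adequate homology. -/
def AdeqH (K : CochainComplex (Adeq.MVF A) ℕ) : Prop := ∀ n, Adeq.adequate A (K.homology n)

theorem adeqH_biprod {K L : CochainComplex (Adeq.MVF A) ℕ} (hK : AdeqH A K) (hL : AdeqH A L) :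
    AdeqH A (K ⊞ L) := fun n => by
  let F := HomologicalComplex.homologyFunctor (Adeq.MVF A) (ComplexShape.up ℕ) n
  have : PreservesBinaryBiproduct K L F := preservesBinaryBiproduct_of_preservesBiproduct F K L
  exact (Adeq.adequate A).prop_of_iso (F.mapBiprod K L).symm (adequate_biprod (hK n) (hL n))

/-- If two terms of a short exact sequence of complexes have adequate homology, so does the first. -/
theorem adeqH_of_shortExact {S : ShortComplex (CochainComplex (Adeq.MVF A) ℕ)} (hS : S.ShortExact)
    (h₂ : AdeqH A S.X₂) (h₃ : AdeqH A S.X₃) : AdeqH A S.X₁ := by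
  rintro (_ | j)
  · haveI := hS.mono_f
    haveI : Mono (S.f.f 0) := inferInstanceAs (Mono ((HomologicalComplex.eval _ _ 0).map S.f))
    haveI : Mono (HomologicalComplex.cyclesMap S.f 0) := by
      haveI : Mono (HomologicalComplex.cyclesMap S.f 0 ≫ S.X₂.iCycles 0) := by
        rw [HomologicalComplex.cyclesMap_i]
        exact mono_comp _ _
      exact mono_of_mono _ (S.X₂.iCycles 0)
    haveI : Mono (HomologicalComplex.homologyMap S.f 0) := by
      have e : HomologicalComplex.homologyMap S.f 0 =
          S.X₁.isoHomologyπ₀.inv ≫ HomologicalComplex.cyclesMap S.f 0 ≫ S.X₂.isoHomologyπ₀.hom := by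
        rw [← Category.assoc, ← CochainComplex.isoHomologyπ₀_inv_naturality, Category.assoc, Iso.inv_hom_id,
          Category.comp_id]
      rw [e]
      infer_instance
    have hk : IsKer (HomologicalComplex.homologyMap S.g 0) (HomologicalComplex.homologyMap S.f 0) :=
      { inj := fun B => injective_of_mono _ B
        zero := fun B x => by
          rw [← app_comp, ← HomologicalComplex.homologyMap_comp, S.zero, HomologicalComplex.homologyMap_zero, app_zero]
        exists_lift := fun B y hy => exists_of_exact (hS.homology_exact₂ 0) B y hy }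
    obtain ⟨i⟩ := hk.nonempty_iso_kernel
    exact (Adeq.adequate A).prop_of_iso i.symm (adequate_kernel _ (h₂ 0) (h₃ 0))
  · exact adequate_five (hS.homology_exact₃ j (j + 1) (by simp)) (hS.homology_exact₁ j (j + 1) (by simp))
      (hS.homology_exact₂ (j + 1)) (h₂ j) (h₃ j) (h₂ (j + 1)) (h₃ (j + 1))

theorem adequate_of_iso_homology {K L : CochainComplex (Adeq.MVF A) ℕ} (e : K ≅ L) (hK : AdeqH A K) :
    AdeqH A L := fun n =>
  (Adeq.adequate A).prop_of_iso ((HomologicalComplex.homologyFunctor _ _ n).mapIso e) (hK n)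

end Groth.Agent.RpushAdeq8
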