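import Groth.Agent.Lib.RpushAdeq8.Open

/-!
# The Mayer–Vietoris sequence of the sections of an injective resolution
-/

set_option autoImplicit false
set_option maxHeartbeats 1000000
set_option linter.style.haveILetI false
set_option backward.isDefEq.respectTransparency false
set_option backward.isDefEq.respectTransparency.types false

universe u

open CategoryTheory CategoryTheory.Limits AlgebraicGeometry Opposite

noncomputable section

namespace Groth.Agent.RpushAdeq8

open Groth.Agent.AdeqA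

attribute [local instance] Abelian.hasFiniteBiproducts

variable {T : Scheme.{u}} {R : CommRingCat.{u}} {X : Scheme.{u}} (g : X ⟶ Spec R) (k : X ⟶ T)

/-- The object over an open. -/
abbrev wO (W : X.Opens) (B : Adeq.Alg R) : Over T := pO (W.ι ≫ g) (W.ι ≫ k) B

/-- Sections over the part of the base change over an open. -/
abbrev SecW (W : X.Opens) : BigSite.Mod Scheme.fppfPrecoverage T ⥤ Adeq.MVF R := Sec (W.ι ≫ g) (W.ι ≫ k)

/-- Restriction to a smaller open. -/
abbrev resW {W' W : X.Opens} (h : W' ≤ W) : SecW g k W ⟶ SecW g k W' :=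
  res (W.ι ≫ g) (W.ι ≫ k) (W'.ι ≫ g) (W'.ι ≫ k) (X.homOfLE h) (Scheme.homOfLE_ι_assoc _ _ _) (Scheme.homOfLE_ι_assoc _ _ _)

/-- The map of objects of an inclusion. -/
abbrev peW {W' W : X.Opens} (h : W' ≤ W) (B : Adeq.Alg R) : wO g k W' B ⟶ wO g k W B :=
  pe (W.ι ≫ g) (W.ι ≫ k) (W'.ι ≫ g) (W'.ι ≫ k) (X.homOfLE h) (Scheme.homOfLE_ι_assoc _ _ _) (Scheme.homOfLE_ι_assoc _ _ _) B

theorem peW_snd {W' W : X.Opens} (h : W' ≤ W) (B : Adeq.Alg R) :
    (peW g k h B).left ≫ pullback.snd (sOb (𝟙 (Spec R)) B).hom (W.ι ≫ g) ≫ W.ι =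
      pullback.snd (sOb (𝟙 (Spec R)) B).hom (W'.ι ≫ g) ≫ W'.ι := by
  rw [← Category.assoc, pe_snd, Category.assoc, Scheme.homOfLE_ι]

variable {W U : X.Opens} (N : BigSite.Mod Scheme.fppfPrecoverage T) (B : Adeq.Alg R)

theorem cover_mem :
    Sieve.ofArrows (fun b : Bool => wO g k (bif b then W else U) B)
        (fun b => peW g k (show (bif b then W else U) ≤ W ⊔ U by cases b <;> simp) B) ∈
      QuotSh.J Scheme.fppfPrecoverage T (wO g k (W ⊔ U) B) := by
  rw [GrothendieckTopology.mem_over_iff, Sieve.overEquiv_ofArrows]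
  refine Precoverage.generate_mem_toGrothendieck ((Scheme.ofArrows_mem_precoverage_iff _).2
    ⟨fun z => ?_, fun b => ?_⟩)
  · let w : ((W ⊔ U : X.Opens) : Scheme.{u}) := pullback.snd (sOb (𝟙 (Spec R)) B).hom ((W ⊔ U : X.Opens).ι ≫ g) z
    obtain ⟨b, hb⟩ : ∃ b, (w.1 : X) ∈ (bif b then W else U) := by
      rcases w.2 with h | h
      exacts [⟨true, h⟩, ⟨false, h⟩]
    refine ⟨b, ?_⟩
    show z ∈ Set.range (peW g k (show (bif b then W else U) ≤ W ⊔ U by cases b <;> simp) B).left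
    simp only [pe, Over.homMk_left]
    erw [Scheme.Pullback.range_map]
    refine ⟨⟨_, rfl⟩, ⟨w.1, hb⟩, ?_⟩
    show X.homOfLE _ ⟨w.1, hb⟩ = w
    apply Subtype.ext
    simp
  · haveI := isOpenImmersion_pe ((W ⊔ U : X.Opens).ι ≫ g) ((W ⊔ U : X.Opens).ι ≫ k) ((bif b then W else U).ι ≫ g)
      ((bif b then W else U).ι ≫ k) (X.homOfLE (show (bif b then W else U) ≤ W ⊔ U by cases b <;> simp))
      (Scheme.homOfLE_ι_assoc _ _ _) (Scheme.homOfLE_ι_assoc _ _ _) B
    exact ⟨inferInstance, inferInstance⟩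

theorem exists_inter_lift {Z : Over T} (a : Z ⟶ wO g k W B) (b : Z ⟶ wO g k U B)
    (h : a ≫ peW g k (le_sup_left : W ≤ W ⊔ U) B = b ≫ peW g k (le_sup_right : U ≤ W ⊔ U) B) :
    ∃ c : Z ⟶ wO g k (W ⊓ U) B, c ≫ peW g k inf_le_left B = a ∧ c ≫ peW g k inf_le_right B = b := by
  have hl : a.left ≫ (peW g k (le_sup_left : W ≤ W ⊔ U) B).left = b.left ≫ (peW g k (le_sup_right : U ≤ W ⊔ U) B).left :=
    congrArg CommaMorphism.left h
  let pA := pullback.snd (sOb (𝟙 (Spec R)) B).hom (W.ι ≫ g) ≫ W.ι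
  let pB := pullback.snd (sOb (𝟙 (Spec R)) B).hom (U.ι ≫ g) ≫ U.ι
  have hs : a.left ≫ pA = b.left ≫ pB := by
    have e := congrArg (· ≫ pullback.snd (sOb (𝟙 (Spec R)) B).hom ((W ⊔ U : X.Opens).ι ≫ g) ≫ (W ⊔ U : X.Opens).ι) hl
    simp only [Category.assoc] at e
    rwa [peW_snd, peW_snd] at e
  have hf : a.left ≫ pullback.fst (sOb (𝟙 (Spec R)) B).hom (W.ι ≫ g) =
      b.left ≫ pullback.fst (sOb (𝟙 (Spec R)) B).hom (U.ι ≫ g) := by
    have e := congrArg (· ≫ pullback.fst (sOb (𝟙 (Spec R)) B).hom ((W ⊔ U : X.Opens).ι ≫ g)) hl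
    simp only [Category.assoc] at e
    rwa [pe_fst, pe_fst] at e
  have hr : Set.range (a.left ≫ pA) ⊆ Set.range (W ⊓ U : X.Opens).ι := by
    rintro _ ⟨z, rfl⟩
    rw [Scheme.Opens.range_ι]
    refine ⟨(pullback.snd (sOb (𝟙 (Spec R)) B).hom (W.ι ≫ g) (a.left z)).2, ?_⟩
    rw [hs]
    exact (pullback.snd (sOb (𝟙 (Spec R)) B).hom (U.ι ≫ g) (b.left z)).2
  let l := IsOpenImmersion.lift (W ⊓ U : X.Opens).ι (a.left ≫ pA) hr
  have hli : l ≫ (W ⊓ U : X.Opens).ι = a.left ≫ pA := IsOpenImmersion.lift_fac _ _ _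
  let c₀ : Z.left ⟶ (wO g k (W ⊓ U) B).left :=
    pullback.lift (a.left ≫ pullback.fst (sOb (𝟙 (Spec R)) B).hom (W.ι ≫ g)) l (by
      rw [reassoc_of% hli, Category.assoc, pullback.condition]
      simp only [pA, Category.assoc])
  have hc : c₀ ≫ (wO g k (W ⊓ U) B).hom = Z.hom := by
    show c₀ ≫ pullback.snd _ _ ≫ (W ⊓ U : X.Opens).ι ≫ k = Z.hom
    rw [pullback.lift_snd_assoc, reassoc_of% hli]
    simp only [pA, Category.assoc]
    exact Over.w a
  refine ⟨Over.homMk c₀ hc, ?_, ?_⟩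
  · ext : 1
    show c₀ ≫ (peW g k (inf_le_left : W ⊓ U ≤ W) B).left = a.left
    refine pullback.hom_ext ?_ ((cancel_mono W.ι).1 ?_)
    · rw [Category.assoc, pe_fst, pullback.lift_fst]
    · simp only [Category.assoc]
      rw [peW_snd, pullback.lift_snd_assoc, hli]
  · ext : 1
    show c₀ ≫ (peW g k (inf_le_right : W ⊓ U ≤ U) B).left = b.left
    refine pullback.hom_ext ?_ ((cancel_mono U.ι).1 ?_)
    · rw [Category.assoc, pe_fst, pullback.lift_fst, hf]
    · simp only [Category.assoc]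
      rw [peW_snd, pullback.lift_snd_assoc, hli, hs]

theorem sections_ext {x y : El ((SecW g k (W ⊔ U)).obj N) B}
    (hW : app ((resW g k le_sup_left).app N) B x = app ((resW g k (le_sup_left : W ≤ W ⊔ U)).app N) B y)
    (hU : app ((resW g k le_sup_right).app N) B x = app ((resW g k (le_sup_right : U ≤ W ⊔ U)).app N) B y) :
    x = y := by
  have hP := (isSheaf_iff_isSheaf_of_type _ _).1
    ((Presheaf.isSheaf_iff_isSheaf_forget _ N.val.presheaf (forget AddCommGrpCat.{u + 1})).1 N.isSheaf)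
  refine (hP _ (cover_mem g k (W := W) (U := U) B)).isSeparatedFor.ext fun Z a ha => ?_
  obtain ⟨_, c, _, ⟨b⟩, rfl⟩ := ha
  rw [op_comp, Functor.map_comp]
  refine congrArg (fun w => ((N.val.presheaf ⋙ forget AddCommGrpCat.{u + 1}).map c.op) w) ?_
  cases b
  · exact hU
  · exact hW

theorem exists_glue (a : El ((SecW g k W).obj N) B) (b : El ((SecW g k U).obj N) B)
    (h : app ((resW g k (inf_le_left : W ⊓ U ≤ W)).app N) B a = app ((resW g k (inf_le_right : W ⊓ U ≤ U)).app N) B b) :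
    ∃ x : El ((SecW g k (W ⊔ U)).obj N) B, app ((resW g k le_sup_left).app N) B x = a ∧
      app ((resW g k le_sup_right).app N) B x = b := by
  have hP := (isSheaf_iff_isSheaf_of_type _ _).1
    ((Presheaf.isSheaf_iff_isSheaf_forget _ N.val.presheaf (forget AddCommGrpCat.{u + 1})).1 N.isSheaf)
  let y : ∀ i : Bool, N.val.presheaf.obj (op (wO g k (bif i then W else U) B)) := fun i => match i with
    | true => a
    | false => b
  obtain ⟨t, ht, -⟩ := (Presieve.isSheafFor_arrows_iff _ _).1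
    (hP.isSheafFor _ (cover_mem g k (W := W) (U := U) B)) y fun i j Z gi gj hij => by
      have hmain : ∀ (p : Z ⟶ wO g k W B) (q : Z ⟶ wO g k U B),
          p ≫ peW g k (le_sup_left : W ≤ W ⊔ U) B = q ≫ peW g k (le_sup_right : U ≤ W ⊔ U) B →
          N.val.presheaf.map p.op a = N.val.presheaf.map q.op b := fun p q hpq => by
        obtain ⟨c, rfl, rfl⟩ := exists_inter_lift g k B p q hpq
        rw [op_comp, op_comp, Functor.map_comp, Functor.map_comp]
        exact congrArg (N.val.presheaf.map c.op) h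
      have hmono : ∀ {V : X.Opens} (hV : V ≤ W ⊔ U) (p q : Z ⟶ wO g k V B),
          p ≫ peW g k hV B = q ≫ peW g k hV B → p = q := fun hV p q hpq => (cancel_mono _).1 hpq
      cases i <;> cases j
      · rw [hmono (le_sup_right) gi gj hij]
      · exact (hmain gj gi hij.symm).symm
      · exact hmain gi gj hij
      · rw [hmono (le_sup_left) gi gj hij]
  exact ⟨t, ht true, ht false⟩

variable (W U) {M : BigSite.Mod Scheme.fppfPrecoverage T} (I : InjectiveResolution M)

/-- The complex over an open. -/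
abbrev cW (V : X.Opens) : CochainComplex (Adeq.MVF R) ℕ := cG (V.ι ≫ g) (V.ι ≫ k) I

/-- Restriction of complexes. -/
abbrev rW {V' V : X.Opens} (h : V' ≤ V) : cW g k I V ⟶ cW g k I V' :=
  (NatTrans.mapHomologicalComplex (resW g k h) (ComplexShape.up ℕ)).app I.cocomplex

theorem rW_comp {V'' V' V : X.Opens} (h : V'' ≤ V') (h' : V' ≤ V) :
    rW g k I h' ≫ rW g k I h = rW g k I (h.trans h') := by
  ext n : 1
  refine hom_ext fun B x => ?_
  show (I.cocomplex.X n).val.presheaf.map (peW g k h B).op ((I.cocomplex.X n).val.presheaf.map (peW g k h' B).op x) =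
    (I.cocomplex.X n).val.presheaf.map (peW g k (h.trans h') B).op x
  rw [← ConcreteCategory.comp_apply, ← Functor.map_comp, ← op_comp]
  refine congrArg (fun q => (I.cocomplex.X n).val.presheaf.map (Quiver.Hom.op q) x) ?_
  ext : 1
  show (peW g k h B).left ≫ (peW g k h' B).left = (peW g k (h.trans h') B).left
  refine pullback.hom_ext ?_ ?_
  · rw [Category.assoc, pe_fst, pe_fst, pe_fst]
  · rw [Category.assoc, pe_snd, reassoc_of% pe_snd, pe_snd, Scheme.homOfLE_homOfLE]

/-- The Mayer–Vietoris sequence. -/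
def mv : ShortComplex (CochainComplex (Adeq.MVF R) ℕ) :=
  ShortComplex.mk
    (biprod.lift (rW g k I (le_sup_left : W ≤ W ⊔ U)) (rW g k I (le_sup_right : U ≤ W ⊔ U)))
    (biprod.desc (rW g k I (inf_le_left : W ⊓ U ≤ W)) (-rW g k I (inf_le_right : W ⊓ U ≤ U))) (by
    rw [biprod.lift_desc, Preadditive.comp_neg, rW_comp, rW_comp, add_neg_cancel])

theorem shortExact_mv : (mv g k W U I).ShortExact := by
  refine HomologicalComplex.shortExact_of_degreewise_shortExact _ fun n => ?_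
  haveI := I.injective n
  let rl := rW g k I (le_sup_left : W ≤ W ⊔ U)
  let rr := rW g k I (le_sup_right : U ≤ W ⊔ U)
  let il := rW g k I (inf_le_left : W ⊓ U ≤ W)
  let ir := rW g k I (inf_le_right : W ⊓ U ≤ U)
  let K := cW g k I W
  let L := cW g k I U
  have c1 : ∀ B x, app ((biprod.fst : K ⊞ L ⟶ K).f n) B (app ((biprod.lift rl rr).f n) B x) = app (rl.f n) B x :=
    fun B x => by rw [← app_comp, ← HomologicalComplex.comp_f, biprod.lift_fst]
  have c2 : ∀ B x, app ((biprod.snd : K ⊞ L ⟶ L).f n) B (app ((biprod.lift rl rr).f n) B x) = app (rr.f n) B x :=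
    fun B x => by rw [← app_comp, ← HomologicalComplex.comp_f, biprod.lift_snd]
  have tot : ∀ B (y : El ((K ⊞ L).X n) B),
      app ((biprod.inl : K ⟶ K ⊞ L).f n) B (app ((biprod.fst : K ⊞ L ⟶ K).f n) B y) +
        app ((biprod.inr : L ⟶ K ⊞ L).f n) B (app ((biprod.snd : K ⊞ L ⟶ L).f n) B y) = y := fun B y => by
    rw [← app_comp, ← app_comp, ← app_add, ← HomologicalComplex.comp_f, ← HomologicalComplex.comp_f,
      ← HomologicalComplex.add_f_apply, biprod.total, HomologicalComplex.id_f, app_id]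
  have d1 : ∀ B a, app ((biprod.desc il (-ir)).f n) B (app ((biprod.inl : K ⟶ K ⊞ L).f n) B a) = app (il.f n) B a :=
    fun B a => by rw [← app_comp, ← HomologicalComplex.comp_f, biprod.inl_desc]
  have d2 : ∀ B b, app ((biprod.desc il (-ir)).f n) B (app ((biprod.inr : L ⟶ K ⊞ L).f n) B b) = -app (ir.f n) B b :=
    fun B b => by
      rw [← app_comp, ← HomologicalComplex.comp_f, biprod.inr_desc, HomologicalComplex.neg_f_apply]
      rfl
  refine ShortComplex.ShortExact.mk' (exact_of_el _ fun B y hy => ?_) (mono_of_injective _ fun B x x' hx => ?_)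
    (epi_of_surjective _ fun B z => ?_)
  · have h0 : app ((biprod.desc il (-ir)).f n) B y = 0 := hy
    rw [← tot B y, map_add, d1, d2, add_neg_eq_zero] at h0
    obtain ⟨x, hx1, hx2⟩ := exists_glue g k (I.cocomplex.X n) B _ _ h0
    refine ⟨x, ?_⟩
    show app ((biprod.lift rl rr).f n) B x = y
    rw [← tot B y, ← tot B (app ((biprod.lift rl rr).f n) B x), c1, c2]
    exact congrArg₂ (fun p q => app ((biprod.inl : K ⟶ K ⊞ L).f n) B p + app ((biprod.inr : L ⟶ K ⊞ L).f n) B q)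
      hx1 hx2
  · have hx' : app ((biprod.lift rl rr).f n) B x = app ((biprod.lift rl rr).f n) B x' := hx
    exact sections_ext g k (I.cocomplex.X n) B ((c1 B x).symm.trans ((congrArg _ hx').trans (c1 B x')))
      ((c2 B x).symm.trans ((congrArg _ hx').trans (c2 B x')))
  · obtain ⟨a, ha⟩ := surjective_res (W.ι ≫ g) (W.ι ≫ k) ((W ⊓ U : X.Opens).ι ≫ g) ((W ⊓ U : X.Opens).ι ≫ k)
      (X.homOfLE (inf_le_left : W ⊓ U ≤ W)) (Scheme.homOfLE_ι_assoc _ _ _) (Scheme.homOfLE_ι_assoc _ _ _)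
      (I.cocomplex.X n) B z
    exact ⟨app ((biprod.inl : K ⟶ K ⊞ L).f n) B a, (d1 B a).trans ha⟩

end Groth.Agent.RpushAdeq8
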