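import Groth.Agent.Lib.RpushAdeq8.MV
import Groth.Agent.Lib.AdeqA.SiteColim
import Mathlib.CategoryTheory.Abelian.RightDerived
import Mathlib.AlgebraicGeometry.Morphisms.Affine
import Mathlib.AlgebraicGeometry.Limits

/-!
# Higher direct images of adequate modules are adequate
-/

set_option autoImplicit false
set_option maxHeartbeats 1000000
set_option linter.style.haveILetI false
set_option backward.isDefEq.respectTransparency false
set_option backward.isDefEq.respectTransparency.types false

universe u

open CategoryTheory CategoryTheory.Limits AlgebraicGeometry Opposite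

noncomputable section

namespace Groth.Agent.RpushAdeq8

open Groth.Agent.AdeqA

section

variable {T : Scheme.{u}} {R : CommRingCat.{u}} {X : Scheme.{u}} (g : X ⟶ Spec R) (k : X ⟶ T)
  {M : BigSite.Mod Scheme.fppfPrecoverage T} (I : InjectiveResolution M)
  (hM : Adeq.adequateMod Scheme.fppfPrecoverage T M)

include hM in
theorem adeqH_isAffineOpen {W : X.Opens} (hW : IsAffineOpen W) : AdeqH R (cW g k I W) :=
  haveI : IsAffine (W : Scheme.{u}) := hW
  adeqH_affine (W.ι ≫ g) (W.ι ≫ k) I hM

theorem adeqH_sup {W U : X.Opens} (hW : AdeqH R (cW g k I W)) (hU : AdeqH R (cW g k I U))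
    (hWU : AdeqH R (cW g k I (W ⊓ U))) : AdeqH R (cW g k I (W ⊔ U)) :=
  adeqH_of_shortExact (shortExact_mv g k W U I) (adeqH_biprod hW hU) hWU

theorem isAffineOpen_inf_of_le {V U U' : X.Opens} (hV : IsAffineOpen V) (hU : IsAffineOpen U)
    (hU' : IsAffineOpen U') (h : U ≤ V) (h' : U' ≤ V) : IsAffineOpen (U ⊓ U') := by
  haveI : IsAffine (V : Scheme.{u}) := hV
  have e : ∀ A : X.Opens, A ≤ V → V.ι ''ᵁ (V.ι ⁻¹ᵁ A) = A := fun A hA => by
    rw [Scheme.Hom.image_preimage_eq_opensRange_inf, Scheme.Opens.opensRange_ι, inf_eq_right.2 hA]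
  have a : ∀ A : X.Opens, A ≤ V → IsAffineOpen A → IsAffineOpen (V.ι ⁻¹ᵁ A) := fun A hA hA' => by
    rw [← V.ι.isAffineOpen_iff_of_isOpenImmersion, e A hA]
    exact hA'
  have h₀ := ((a U h hU).inf (a U' h' hU')).image_of_isOpenImmersion V.ι
  rwa [show V.ι ⁻¹ᵁ U ⊓ V.ι ⁻¹ᵁ U' = V.ι ⁻¹ᵁ (U ⊓ U') from rfl, e _ (inf_le_left.trans h)] at h₀

include hM in
theorem adeqH_le_affine [QuasiSeparatedSpace X] {V : X.Opens} (hV : IsAffineOpen V) {W : X.Opens}
    (hW : IsCompact (W : Set X)) (hWV : W ≤ V) : AdeqH R (cW g k I W) := by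
  have key : W ≤ V → ∀ U : X.Opens, IsAffineOpen U → U ≤ V → AdeqH R (cW g k I (W ⊓ U)) := by
    refine compact_open_induction_on (P := fun W : X.Opens => W ≤ V → ∀ U : X.Opens, IsAffineOpen U → U ≤ V →
      AdeqH R (cW g k I (W ⊓ U))) W hW (fun _ U _ _ => ?_) (fun W _ U₁ ih hWV U hU hUV => ?_)
    · rw [bot_inf_eq]
      exact adeqH_isAffineOpen g k I hM (isAffineOpen_bot X)
    · have hU₁ : U₁.1 ≤ V := le_sup_right.trans hWV
      have hW' : W ≤ V := le_sup_left.trans hWV
      have hA : IsAffineOpen (U₁.1 ⊓ U) := isAffineOpen_inf_of_le hV U₁.2 hU hU₁ hUV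
      rw [inf_sup_right]
      refine adeqH_sup g k I (ih hW' U hU hUV) (adeqH_isAffineOpen g k I hM hA) ?_
      rw [← inf_inf_distrib_right]
      rw [inf_assoc]
      exact ih hW' _ hA (inf_le_right.trans hUV)
  have h := key hWV V hV le_rfl
  rwa [inf_eq_left.2 hWV] at h

include hM in
theorem adeqH_compact [QuasiSeparatedSpace X] {W : X.Opens} (hW : IsCompact (W : Set X)) :
    AdeqH R (cW g k I W) := by
  refine compact_open_induction_on (P := fun W : X.Opens => AdeqH R (cW g k I W)) W hW
    (adeqH_isAffineOpen g k I hM (isAffineOpen_bot X)) (fun W hW U ih => ?_)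
  exact adeqH_sup g k I ih (adeqH_isAffineOpen g k I hM U.2)
    (adeqH_le_affine g k I hM U.2 (hW.inter_of_isOpen U.2.isCompact W.2 U.1.2) inf_le_right)

end

section

variable {S T : Scheme.{u}} (f : T ⟶ S) {R : CommRingCat.{u}} (a : Spec R ⟶ S)

theorem top_condition (B : Adeq.Alg R) :
    pullback.fst (sOb (𝟙 (Spec R)) B).hom ((⊤ : (pullback a f).Opens).ι ≫ pullback.fst a f) ≫ specStr B =
      pullback.snd (sOb (𝟙 (Spec R)) B).hom ((⊤ : (pullback a f).Opens).ι ≫ pullback.fst a f) ≫
        (⊤ : (pullback a f).Opens).ι ≫ pullback.fst a f :=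
  (congrArg (pullback.fst (sOb (𝟙 (Spec R)) B).hom ((⊤ : (pullback a f).Opens).ι ≫ pullback.fst a f) ≫ ·)
    (Category.comp_id (specStr B))).symm.trans pullback.condition

/-- The map of objects from the sections over the total open. -/
def topMap (B : Adeq.Alg R) :
    wO (pullback.fst a f) (pullback.snd a f) ⊤ B ⟶ pObj f a B :=
  Over.homMk (pullback.lift (f := (sOb a B).hom) (g := f) (pullback.fst _ _)
    (pullback.snd (sOb (𝟙 (Spec R)) B).hom ((⊤ : (pullback a f).Opens).ι ≫ pullback.fst a f) ≫
      (⊤ : (pullback a f).Opens).ι ≫ pullback.snd a f) (by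
    refine ((Category.assoc _ _ _).symm.trans (congrArg (· ≫ a) (top_condition f a B))).trans ?_
    simp only [Category.assoc, pullback.condition])) (by
    exact pullback.lift_snd _ _ _)

/-- The inverse map of objects. -/
def topInv (B : Adeq.Alg R) :
    pObj f a B ⟶ wO (pullback.fst a f) (pullback.snd a f) ⊤ B :=
  Over.homMk (pullback.lift (f := (sOb (𝟙 (Spec R)) B).hom)
    (g := (⊤ : (pullback a f).Opens).ι ≫ pullback.fst a f) (pullback.fst _ _)
    (hProj f a B ≫ (pullback a f).topIso.inv) (by
      show _ ≫ specStr B ≫ 𝟙 _ = (hProj f a B ≫ (pullback a f).topIso.inv) ≫ (pullback a f).topIso.hom ≫ _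
      rw [Category.comp_id, Category.assoc, Iso.inv_hom_id_assoc, hProj, pullback.lift_fst])) (by
    show _ ≫ pullback.snd _ _ ≫ (pullback a f).topIso.hom ≫ pullback.snd a f = _
    rw [pullback.lift_snd_assoc, Category.assoc, Iso.inv_hom_id_assoc, hProj, pullback.lift_snd]
    rfl)

theorem topMap_fst (B : Adeq.Alg R) :
    (topMap f a B).left ≫ pullback.fst (sOb a B).hom f =
      pullback.fst (sOb (𝟙 (Spec R)) B).hom ((⊤ : (pullback a f).Opens).ι ≫ pullback.fst a f) :=
  pullback.lift_fst _ _ _

theorem topMap_snd (B : Adeq.Alg R) :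
    (topMap f a B).left ≫ pullback.snd (sOb a B).hom f =
      pullback.snd (sOb (𝟙 (Spec R)) B).hom ((⊤ : (pullback a f).Opens).ι ≫ pullback.fst a f) ≫
      (⊤ : (pullback a f).Opens).ι ≫ pullback.snd a f :=
  pullback.lift_snd _ _ _

instance (B : Adeq.Alg R) : IsIso (topMap f a B) := by
  refine ⟨topInv f a B, ?_, ?_⟩
  · ext : 1
    show (topMap f a B).left ≫ (topInv f a B).left = 𝟙 _
    refine pullback.hom_ext ?_ ((cancel_mono (pullback a f).topIso.hom).1 ?_)
    · rw [Category.assoc]
      erw [pullback.lift_fst]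
      rw [topMap_fst, Category.id_comp]
    · simp only [Category.assoc]
      erw [pullback.lift_snd_assoc]
      simp only [Category.assoc, Iso.inv_hom_id, Category.comp_id, Category.id_comp]
      refine pullback.hom_ext ?_ ?_
      · rw [hProj]
        simp only [Category.assoc, pullback.lift_fst]
        erw [← Category.assoc, topMap_fst]
        exact top_condition f a B
      · rw [hProj]
        simp only [Category.assoc, pullback.lift_snd]
        exact topMap_snd f a B
  · ext : 1
    show (topInv f a B).left ≫ (topMap f a B).left = 𝟙 _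
    refine pullback.hom_ext ?_ ?_
    · rw [Category.assoc, topMap_fst]
      erw [pullback.lift_fst]
      rw [Category.id_comp]
    · rw [Category.assoc, topMap_snd]
      erw [pullback.lift_snd_assoc]
      show (hProj f a B ≫ (pullback a f).topIso.inv) ≫ (pullback a f).topIso.hom ≫ pullback.snd a f = _
      rw [Category.assoc, Iso.inv_hom_id_assoc, hProj, pullback.lift_snd]
      exact (Category.id_comp _).symm

theorem topMap_natural {B B' : Adeq.Alg R} (φ : B ⟶ B') :
    topMap f a B' ≫ (Over.pullback f).map (sMap a φ) =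
      pMor ((⊤ : (pullback a f).Opens).ι ≫ pullback.fst a f) ((⊤ : (pullback a f).Opens).ι ≫ pullback.snd a f) φ ≫
        topMap f a B := by
  ext : 1
  show (topMap f a B').left ≫ ((Over.pullback f).map (sMap a φ)).left =
    ((Over.pullback ((⊤ : (pullback a f).Opens).ι ≫ pullback.fst a f)).map (sMap (𝟙 (Spec R)) φ)).left ≫
      (topMap f a B).left
  refine pullback.hom_ext ?_ ?_
  · simp only [Category.assoc, topMap_fst]
    erw [pullback.lift_fst, pullback.lift_fst]
    rw [← Category.assoc, topMap_fst]
    rfl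
  · simp only [Category.assoc, topMap_snd]
    erw [pullback.lift_snd, pullback.lift_snd_assoc]
    exact topMap_snd f a B'

/-- Sections of the pushforward are the sections over the total open of the base change. -/
def topTrans : BigSite.pushMod Scheme.fppfPrecoverage f ⋙ Adeq.toMVF Scheme.fppfPrecoverage a ⟶
    SecW (pullback.fst a f) (pullback.snd a f) ⊤ where
  app N := mkHom
    (fun B =>
      { toFun := fun x => N.val.presheaf.map (topMap f a B).op x
        map_add' := map_add (N.val.presheaf.map (topMap f a B).op).hom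
        map_smul' := fun r x => map_smul_of_fst N (topMap f a B) B _ _ (topMap_fst f a B) r x })
    (fun B B' φ x => by
      show N.val.presheaf.map (topMap f a B').op (N.val.presheaf.map ((Over.pullback f).map (sMap a φ)).op x) =
        N.val.presheaf.map (pMor ((⊤ : (pullback a f).Opens).ι ≫ pullback.fst a f)
          ((⊤ : (pullback a f).Opens).ι ≫ pullback.snd a f) φ).op (N.val.presheaf.map (topMap f a B).op x)
      rw [← ConcreteCategory.comp_apply, ← ConcreteCategory.comp_apply, ← N.val.presheaf.map_comp,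
        ← N.val.presheaf.map_comp, ← op_comp, ← op_comp, topMap_natural])
  naturality N N' ψ := hom_ext fun B x =>
    (NatTrans.naturality_apply ((BigSite.toAbMod Scheme.fppfPrecoverage T).map ψ).hom (topMap f a B).op x).symm

instance : IsIso (topTrans f a) := by
  haveI : ∀ N, IsIso ((topTrans f a).app N) := fun N => by
    haveI := mono_of_injective ((topTrans f a).app N) fun B =>
      (ConcreteCategory.bijective_of_isIso (N.val.presheaf.map (topMap f a B).op)).1
    haveI := epi_of_surjective ((topTrans f a).app N) fun B =>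
      (ConcreteCategory.bijective_of_isIso (N.val.presheaf.map (topMap f a B).op)).2
    exact isIso_of_mono_of_epi _
  exact NatIso.isIso_of_isIso_app _

variable [QuasiCompact f] [QuasiSeparated f] {M : BigSite.Mod Scheme.fppfPrecoverage T}
  (I : InjectiveResolution M) (hM : Adeq.adequateMod Scheme.fppfPrecoverage T M)

include hM in
theorem adeqH_push : AdeqH R (((BigSite.pushMod Scheme.fppfPrecoverage f ⋙
    Adeq.toMVF Scheme.fppfPrecoverage a).mapHomologicalComplex (ComplexShape.up ℕ)).obj I.cocomplex) := by
  haveI : CompactSpace (pullback a f : Scheme.{u}) := QuasiCompact.compactSpace_of_compactSpace (pullback.fst a f)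
  haveI : QuasiSeparatedSpace (pullback a f : Scheme.{u}) := quasiSeparatedSpace_of_quasiSeparated (pullback.fst a f)
  haveI : (BigSite.pushMod Scheme.fppfPrecoverage f ⋙ Adeq.toMVF Scheme.fppfPrecoverage a).Additive := inferInstance
  exact adequate_of_iso_homology
    ((NatIso.mapHomologicalComplex (asIso (topTrans f a)) (ComplexShape.up ℕ)).app I.cocomplex).symm
    (adeqH_compact (pullback.fst a f) (pullback.snd a f) I hM (W := ⊤) isCompact_univ)

variable (S) in
/-- The sheafification of presheaves of modules. -/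
abbrev shF : PresheafOfModules.{u + 1} (BigSite.ORing Scheme.fppfPrecoverage S).obj ⥤
    BigSite.Mod Scheme.fppfPrecoverage S :=
  PresheafOfModules.sheafification (𝟙 (BigSite.ORing Scheme.fppfPrecoverage S).obj)

end

section

variable {S T : Scheme.{u}} (f : T ⟶ S) [QuasiCompact f] [QuasiSeparated f]
  {M : BigSite.Mod Scheme.fppfPrecoverage T} (I : InjectiveResolution M)
  (hM : Adeq.adequateMod Scheme.fppfPrecoverage T M)

include hM in
theorem adequateMod_homology (i : ℕ) : Adeq.adequateMod Scheme.fppfPrecoverage S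
    ((((BigSite.pushMod Scheme.fppfPrecoverage f).mapHomologicalComplex (ComplexShape.up ℕ)).obj
      I.cocomplex).homology i) := by
  let K := ((BigSite.pushMod Scheme.fppfPrecoverage f).mapHomologicalComplex (ComplexShape.up ℕ)).obj I.cocomplex
  let F := SheafOfModules.forget.{u + 1} (BigSite.ORing Scheme.fppfPrecoverage S)
  haveI : (shF S).IsLeftAdjoint := inferInstance
  haveI : (shF S).Additive :=
    (PresheafOfModules.sheafificationAdjunction.{u + 1} (𝟙 (BigSite.ORing Scheme.fppfPrecoverage S).obj)).left_adjoint_additive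
  haveI : PreservesFiniteColimits (shF S) := inferInstance
  haveI : PreservesFiniteLimits (shF S) := inferInstance
  let L := (F.mapHomologicalComplex (ComplexShape.up ℕ)).obj K
  let ε : ((shF S).mapHomologicalComplex (ComplexShape.up ℕ)).obj L ≅ K :=
    HomologicalComplex.Hom.isoOfComponents (fun n => (forgetShIso S).app (K.X n))
      (fun a b _ => ((forgetShIso S).hom.naturality (K.d a b)).symm)
  let e : K.homology i ≅ (shF S).obj (L.homology i) :=
    ((HomologicalComplex.homologyFunctor _ _ i).mapIso ε).symm ≪≫ (L.sc i).mapHomologyIso (shF S)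
  refine (Adeq.adequateMod _ S).prop_of_iso e.symm (adequateMod_sheafification _ fun R a => ?_)
  haveI : PreservesFiniteColimits (Adeq.toMVFPre Scheme.fppfPrecoverage a) := inferInstance
  haveI : PreservesFiniteLimits (Adeq.toMVFPre Scheme.fppfPrecoverage a) := inferInstance
  exact (Adeq.adequate R).prop_of_iso ((L.sc i).mapHomologyIso (Adeq.toMVFPre Scheme.fppfPrecoverage a))
    (adeqH_push f a I hM i)

theorem adequateMod_RpushMod [HasInjectiveResolutions (BigSite.Mod Scheme.fppfPrecoverage T)]
    (M : BigSite.Mod Scheme.fppfPrecoverage T) (hM : Adeq.adequateMod Scheme.fppfPrecoverage T M) (i : ℕ) :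
    Adeq.adequateMod Scheme.fppfPrecoverage S ((BigSite.RpushMod Scheme.fppfPrecoverage f i).obj M) :=
  (Adeq.adequateMod Scheme.fppfPrecoverage S).prop_of_iso
    ((injectiveResolution M).isoRightDerivedObj (BigSite.pushMod Scheme.fppfPrecoverage f) i).symm
    (adequateMod_homology f (injectiveResolution M) hM i)

end

end Groth.Agent.RpushAdeq8
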