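import Groth.Agent.Lib.RpushAdeq8.Piece
import Groth.Agent.Lib.RpushAdeq8.Five

/-!
# Homology of the sections of an injective resolution over affine pieces and gluing of two pieces
-/

set_option autoImplicit false
set_option maxHeartbeats 1000000
set_option linter.style.haveILetI false
set_option backward.isDefEq.respectTransparency false
set_option backward.isDefEq.respectTransparency.types false

universe u

open CategoryTheory CategoryTheory.Limits AlgebraicGeometry Opposite

noncomputable section

namespace Groth.Agent.RpushAdeq8

open Groth.Agent.AdeqA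

variable {T : Scheme.{u}} {R : CommRingCat.{u}} {Y : Scheme.{u}} (g : Y ⟶ Spec R) (k : Y ⟶ T)

instance : (Sec g k).Additive where
  map_add {M N ψ ψ'} := hom_ext fun B x => rfl

/-- The complex of sections of the resolution. -/
abbrev cG {M : BigSite.Mod Scheme.fppfPrecoverage T} (I : InjectiveResolution M) : CochainComplex (Adeq.MVF R) ℕ :=
  ((Sec g k).mapHomologicalComplex (ComplexShape.up ℕ)).obj I.cocomplex

theorem isAffine_pO [IsAffine Y] (B : Adeq.Alg R) : IsAffine (pO g k B).left := by
  haveI : IsAffine (sOb (𝟙 (Spec R)) B).left := inferInstanceAs (IsAffine (Spec (CommRingCat.of (B : Type u))))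
  show IsAffine (pullback (sOb (𝟙 (Spec R)) B).hom g)
  infer_instance

theorem adeqH_affine [IsAffine Y] {M : BigSite.Mod Scheme.fppfPrecoverage T} (I : InjectiveResolution M)
    (hM : Adeq.adequateMod Scheme.fppfPrecoverage T M) : AdeqH R (cG g k I) := by
  haveI : ∀ B : Adeq.Alg R, IsAffine (pO g k B).left := isAffine_pO g k
  haveI hmI : Mono (I.ι.f 0) := mono_of_isLimit_fork I.isLimitKernelFork
  have hc := cechAcyc_toAbMod hM
  rintro (_ | j)
  · have hk : IsKer ((cG g k I).d 0 1) ((Sec g k).map (I.ι.f 0)) :=
      { inj := fun B a b hab => by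
          have h : Function.Injective ((SheafOfModules.evaluation (BigSite.ORing Scheme.fppfPrecoverage T)
              (op (pO g k B))).map (I.ι.f 0)) := (ModuleCat.mono_iff_injective _).1 inferInstance
          exact h hab
        zero := fun B x => ConcreteCategory.congr_hom
          (congrArg (SheafOfModules.evaluation (BigSite.ORing Scheme.fppfPrecoverage T) (op (pO g k B))).map
            I.ι_f_zero_comp_complex_d) x
        exists_lift := fun B y hy => by
          have hex := I.exact₀.map_of_mono_of_preservesKernel
            (SheafOfModules.evaluation (BigSite.ORing Scheme.fppfPrecoverage T) (op (pO g k B)))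
            (inferInstanceAs (Mono (I.ι.f 0))) inferInstance
          exact (ShortComplex.moduleCat_exact_iff _).1 hex y hy }
    obtain ⟨i⟩ := hk.nonempty_iso_kernel
    haveI : QuasiCompact g := inferInstance
    haveI : QuasiSeparated g := inferInstance
    have hG : Adeq.adequate R ((Sec g k).obj M) :=
      adequate_toMVF_pushMod g (𝟙 (Spec R)) _ (adequateMod_pullMod k hM)
    have e : (cG g k I).homology 0 ≅ kernel ((cG g k I).d 0 1) :=
      (CochainComplex.isoHomologyπ₀ _).symm ≪≫
        ((cG g k I).cyclesIsKernel 0 1 (by simp)).conePointUniqueUpToIso (limit.isLimit _)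
    exact (Adeq.adequate R).prop_of_iso (i ≪≫ e.symm) hG
  · have hz : IsZero ((cG g k I).homology (j + 1)) := by
      refine HomologicalComplex.ExactAt.isZero_homology ?_
      rw [(cG g k I).exactAt_iff' j (j + 1) (j + 2) (by simp) (by simp)]
      refine exact_of_el _ fun B y hy => ?_
      let Z := pO g k B
      let F := BigSite.toAbMod Scheme.fppfPrecoverage T
      let d := I.cocomplex.d (j + 1) (j + 2)
      let ev := sheafToPresheaf (QuotSh.J Scheme.fppfPrecoverage T) AddCommGrpCat.{u + 1} ⋙
        (evaluation _ AddCommGrpCat.{u + 1}).obj (op Z)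
      let S₀ := (ShortComplex.mk (kernel.ι d) d (kernel.condition _)).map F
      have h₀ : S₀.Exact := (ShortComplex.exact_of_f_is_kernel _ (kernelIsKernel d)).map_of_mono_of_preservesKernel
        F (inferInstanceAs (Mono (kernel.ι d))) inferInstance
      have hex : (S₀.map ev).Exact :=
        h₀.map_of_mono_of_preservesKernel ev (inferInstanceAs (Mono (F.map (kernel.ι d)))) inferInstance
      obtain ⟨z, hz⟩ := (ShortComplex.ab_exact_iff _).1 hex
        (show (ParPush8.cx I (j + 1)).obj.obj (op Z) from y) hy
      obtain ⟨x, hx⟩ := surjective_of_cechAcyc' (ParPush8.shortExact_cycSeq I j) (ParPush8.cechAcyc_cyc I hc j) Z z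
      refine ⟨x, ?_⟩
      refine Eq.trans ?_ hz
      rw [← hx]
      exact (ConcreteCategory.congr_hom (congrArg (fun q : ParPush8.cx I j ⟶ ParPush8.cx I (j + 1) => q.hom.app (op Z))
        ((F.map_comp _ _).symm.trans (congrArg F.map (kernel.lift_ι d (I.cocomplex.d j (j + 1))
          (I.cocomplex.d_comp_d _ _ _))))) x).symm
    refine (Adeq.adequate R).prop_of_iso (((isZero_zero _).iso hz)) ?_
    exact (Adeq.adequate R).prop_of_iso
      ((isZero_kernel_of_mono (𝟙 (uO R (ModuleCat.of R (ULift.{u + 1} R))))).iso (isZero_zero _))
      (adequate_kernel _ (adequate_uO _) (adequate_uO _))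

end Groth.Agent.RpushAdeq8
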