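import Groth.Agent.Lib.ParPush8.Main
import Groth.Agent.Lib.AdeqA.PushMod

/-!
# Sections over the opens of the base change, as functors to module-valued functors
-/

set_option autoImplicit false
set_option maxHeartbeats 1000000
set_option linter.style.haveILetI false
set_option backward.isDefEq.respectTransparency false
set_option backward.isDefEq.respectTransparency.types false

universe u

open CategoryTheory CategoryTheory.Limits AlgebraicGeometry Opposite

noncomputable section

namespace Groth.Agent.RpushAdeq8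

open Groth.Agent.AdeqA

variable {T : Scheme.{u}} {R : CommRingCat.{u}} {Y : Scheme.{u}} (g : Y ⟶ Spec R) (k : Y ⟶ T)

/-- The object of the site of `T` given by `Y ×_R B`. -/
abbrev pO (B : Adeq.Alg R) : Over T := (Over.map k).obj ((Over.pullback g).obj (sOb (𝟙 (Spec R)) B))

/-- The transition maps. -/
abbrev pMor {B B' : Adeq.Alg R} (φ : B ⟶ B') : pO g k B' ⟶ pO g k B :=
  (Over.map k).map ((Over.pullback g).map (sMap (𝟙 (Spec R)) φ))

/-- Sections over `Y ×_R B`. -/
abbrev Sec : BigSite.Mod Scheme.fppfPrecoverage T ⥤ Adeq.MVF R :=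
  BigSite.pullMod Scheme.fppfPrecoverage k ⋙ BigSite.pushMod Scheme.fppfPrecoverage g ⋙
    Adeq.toMVF Scheme.fppfPrecoverage (𝟙 (Spec R))

theorem fmap_sec (N : BigSite.Mod Scheme.fppfPrecoverage T) {B B' : Adeq.Alg R} (φ : B ⟶ B')
    (x : El ((Sec g k).obj N) B) :
    fmap ((Sec g k).obj N) φ x = N.val.presheaf.map (pMor g k φ).op x := rfl

theorem app_sec {N N' : BigSite.Mod Scheme.fppfPrecoverage T} (ψ : N ⟶ N') (B : Adeq.Alg R)
    (x : El ((Sec g k).obj N) B) :
    app ((Sec g k).map ψ) B x =
      ((BigSite.toAbMod Scheme.fppfPrecoverage T).map ψ).hom.app (op (pO g k B)) x := rfl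

variable {Y' : Scheme.{u}} (g' : Y' ⟶ Spec R) (k' : Y' ⟶ T) (e : Y' ⟶ Y) (hg : e ≫ g = g') (hk : e ≫ k = k')

/-- The map of objects induced by a map over `Spec R` and `T`. -/
def pe (B : Adeq.Alg R) : pO g' k' B ⟶ pO g k B :=
  Over.homMk (pullback.map (sOb (𝟙 (Spec R)) B).hom g' (sOb (𝟙 (Spec R)) B).hom g (𝟙 _) e (𝟙 _)
      (by rw [Category.comp_id, Category.id_comp]) (by rw [Category.comp_id, hg])) (by
    show _ ≫ pullback.snd _ _ ≫ k = pullback.snd _ _ ≫ k'
    rw [← hk, ← Category.assoc, pullback.lift_snd, Category.assoc])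

theorem pe_fst (B : Adeq.Alg R) :
    (pe g k g' k' e hg hk B).left ≫ pullback.fst (sOb (𝟙 (Spec R)) B).hom g =
      pullback.fst (sOb (𝟙 (Spec R)) B).hom g' :=
  (pullback.lift_fst _ _ _).trans (Category.comp_id _)

theorem pe_snd (B : Adeq.Alg R) :
    (pe g k g' k' e hg hk B).left ≫ pullback.snd (sOb (𝟙 (Spec R)) B).hom g =
      pullback.snd (sOb (𝟙 (Spec R)) B).hom g' ≫ e :=
  pullback.lift_snd _ _ _

theorem pe_natural {B B' : Adeq.Alg R} (φ : B ⟶ B') :
    pe g k g' k' e hg hk B' ≫ pMor g k φ = pMor g' k' φ ≫ pe g k g' k' e hg hk B := by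
  ext : 1
  show (pe g k g' k' e hg hk B').left ≫ ((Over.pullback g).map (sMap (𝟙 (Spec R)) φ)).left =
    ((Over.pullback g').map (sMap (𝟙 (Spec R)) φ)).left ≫ (pe g k g' k' e hg hk B).left
  refine pullback.hom_ext ?_ ?_
  · simp only [Category.assoc, pe_fst]
    erw [pullback.lift_fst, pullback.lift_fst]
    rw [← Category.assoc, pe_fst]
  · simp only [Category.assoc, pe_snd]
    erw [pullback.lift_snd, pullback.lift_snd_assoc]
    exact pe_snd g k g' k' e hg hk B'

theorem map_smul_of_fst (N : BigSite.Mod Scheme.fppfPrecoverage T) {Z Z' : Over T} (i : Z' ⟶ Z)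
    (B : Adeq.Alg R) (p : Z.left ⟶ Spec (CommRingCat.of (B : Type u)))
    (p' : Z'.left ⟶ Spec (CommRingCat.of (B : Type u))) (hp : i.left ≫ p = p') (r : B)
    (x : N.val.presheaf.obj (op Z)) :
    N.val.presheaf.map i.op
        ((show (BigSite.ORing Scheme.fppfPrecoverage T).obj.obj (op Z) from
          ⟨p.appTop.hom ((Scheme.ΓSpecIso (CommRingCat.of (B : Type u))).inv.hom r)⟩) •
          (show N.val.obj (op Z) from x)) =
      ((show (BigSite.ORing Scheme.fppfPrecoverage T).obj.obj (op Z') from
          ⟨p'.appTop.hom ((Scheme.ΓSpecIso (CommRingCat.of (B : Type u))).inv.hom r)⟩) •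
          (show N.val.obj (op Z') from N.val.presheaf.map i.op x)) := by
  refine (N.val.map_smul i.op _ x).trans ?_
  refine congrArg (· • _) ?_
  refine ULift.ext _ _ ?_
  show i.left.appTop.hom (p.appTop.hom _) = p'.appTop.hom _
  rw [← hp, Scheme.Hom.comp_appTop]
  rfl

/-- Restriction along a map over `Spec R` and `T`. -/
def res : Sec g k ⟶ Sec g' k' where
  app N := mkHom
    (fun B =>
      { toFun := fun x => N.val.presheaf.map (pe g k g' k' e hg hk B).op x
        map_add' := map_add (N.val.presheaf.map (pe g k g' k' e hg hk B).op).hom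
        map_smul' := fun r x =>
          map_smul_of_fst N (pe g k g' k' e hg hk B) B _ _ (pe_fst g k g' k' e hg hk B) r x })
    (fun B B' φ x => by
      show N.val.presheaf.map (pe g k g' k' e hg hk B').op (N.val.presheaf.map (pMor g k φ).op x) =
        N.val.presheaf.map (pMor g' k' φ).op (N.val.presheaf.map (pe g k g' k' e hg hk B).op x)
      rw [← ConcreteCategory.comp_apply, ← ConcreteCategory.comp_apply, ← N.val.presheaf.map_comp,
        ← N.val.presheaf.map_comp, ← op_comp, ← op_comp, pe_natural])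
  naturality N N' ψ := hom_ext fun B x =>
    (NatTrans.naturality_apply ((BigSite.toAbMod Scheme.fppfPrecoverage T).map ψ).hom
      (pe g k g' k' e hg hk B).op x).symm

theorem app_res (N : BigSite.Mod Scheme.fppfPrecoverage T) (B : Adeq.Alg R) (x : El ((Sec g k).obj N) B) :
    app ((res g k g' k' e hg hk).app N) B x = N.val.presheaf.map (pe g k g' k' e hg hk B).op x := rfl

instance [Mono e] (B : Adeq.Alg R) : Mono (pe g k g' k' e hg hk B) := by
  haveI : Mono (pe g k g' k' e hg hk B).left := ⟨fun a b hab => by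
    refine pullback.hom_ext ?_ ((cancel_mono e).1 ?_)
    · rw [← pe_fst g k g' k' e hg hk B, ← Category.assoc, ← Category.assoc, hab]
    · rw [Category.assoc, Category.assoc, ← pe_snd g k g' k' e hg hk B, ← Category.assoc, ← Category.assoc, hab]⟩
  exact Over.mono_of_mono_left _

theorem surjective_res [Mono e] (N : BigSite.Mod Scheme.fppfPrecoverage T) [Injective N] (B : Adeq.Alg R) :
    Function.Surjective (app ((res g k g' k' e hg hk).app N) B) :=
  ParPush8.surjective_map_of_mono N (pe g k g' k' e hg hk B)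

theorem isOpenImmersion_pe [IsOpenImmersion e] (B : Adeq.Alg R) :
    IsOpenImmersion (pe g k g' k' e hg hk B).left :=
  MorphismProperty.pullbackMap (P := @IsOpenImmersion) inferInstance inferInstance (by rw [Category.id_comp]) hg.symm

end Groth.Agent.RpushAdeq8
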